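import Groth.Agent.FibDimLib.FieldInv
import Groth.Agent.FibDimLib.Formula
import Groth.Agent.FibDimLib.QFScheme
import Groth.Agent.CatLib.Flat
import Groth.Agent.WeilLib.Dim
import Groth.Prelude.Def_EGA4b
import Mathlib

/-! # Local dimensions under extension of the ground field -/

set_option autoImplicit false
universe u
open IsLocalRing
open scoped TensorProduct

namespace FieldBCDimLib

theorem add_cancel_nat {a b : WithBot ℕ∞} {n : ℕ} (h : (n : WithBot ℕ∞) + a = n + b) : a = b := by
  induction a <;> induction b <;> simp_all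
  norm_cast at h

variable (k : Type u) [Field k] (S : Type u) [CommRing S] [Algebra k S] [Algebra.FiniteType k S]
variable (K : Type u) [Field K] [Algebra k K]

attribute [local instance] Algebra.TensorProduct.rightAlgebra

theorem finiteType_right : Algebra.FiniteType K (S ⊗[k] K) := by
  let e : K ⊗[k] S ≃ₐ[K] S ⊗[k] K :=
    AlgEquiv.ofRingEquiv (f := (Algebra.TensorProduct.comm k K S).toRingEquiv) fun a => by
      show (Algebra.TensorProduct.comm k K S) (algebraMap K (K ⊗[k] S) a) = (1 : S) ⊗ₜ[k] a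
      simp [Algebra.TensorProduct.algebraMap_apply]
  exact Algebra.FiniteType.equiv inferInstance e

theorem localDim_eq_trdeg_add {F : Type u} [Field F] {R : Type u} [CommRing R] [Algebra F R] [Algebra.FiniteType F R]
    (q : PrimeSpectrum R) (r : ℕ) (hr : Algebra.trdeg F q.asIdeal.ResidueField = r) :
    FlatMor.localDim (PrimeSpectrum R) q = (r : WithBot ℕ∞) + ringKrullDim (Localization.AtPrime q.asIdeal) := by
  rw [FibDimLib.localDim_eq_dim_add F]
  obtain ⟨n, hn, hn'⟩ := WeilLib.dim_eq_trdeg F (R ⧸ q.asIdeal) q.asIdeal.ResidueField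
  rw [hr] at hn'
  rw [hn, Nat.cast_inj.mp hn']

theorem dim_add_trdeg (q : Ideal S) [q.IsPrime] (r : ℕ) (hr : Algebra.trdeg k q.ResidueField = r)
    (qK : Ideal (S ⊗[k] K)) [qK.IsPrime] [qK.LiesOver q] (rK : ℕ) (hrK : Algebra.trdeg K qK.ResidueField = rK) :
    ringKrullDim (Localization.AtPrime qK) + (rK : WithBot ℕ∞) =
      ringKrullDim (Localization.AtPrime q) + (r : WithBot ℕ∞) := by
  haveI := finiteType_right k S K
  let c := (Algebra.TensorProduct.comm k K S).toRingEquiv
  let H := PrimeSpectrum.homeomorphOfRingEquiv c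
  have h1 := FibDimLib.localDim_baseChange_field (k := k) (K := K) (S := S) (PrimeSpectrum.comap c.toRingHom ⟨qK, inferInstance⟩)
  have h2 : FlatMor.localDim (PrimeSpectrum (K ⊗[k] S)) (PrimeSpectrum.comap c.toRingHom ⟨qK, inferInstance⟩) =
      FlatMor.localDim (PrimeSpectrum (S ⊗[k] K)) ⟨qK, inferInstance⟩ := by
    refine FibDimLib.localDim_eq_of_isOpenEmbedding (e := PrimeSpectrum.comap c.toRingHom) ?_ _
    exact (PrimeSpectrum.homeomorphOfRingEquiv c).symm.isOpenEmbedding
  have h3 : PrimeSpectrum.comap (Algebra.TensorProduct.includeRight : S →ₐ[k] K ⊗[k] S).toRingHom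
      (PrimeSpectrum.comap c.toRingHom ⟨qK, inferInstance⟩) = ⟨q, inferInstance⟩ := by
    apply PrimeSpectrum.ext
    show Ideal.comap _ (Ideal.comap c.toRingHom qK) = q
    rw [Ideal.comap_comap, show c.toRingHom.comp (Algebra.TensorProduct.includeRight : S →ₐ[k] K ⊗[k] S).toRingHom =
      algebraMap S (S ⊗[k] K) from RingHom.ext fun s => by
        show (Algebra.TensorProduct.comm k K S) ((1 : K) ⊗ₜ[k] s) = s ⊗ₜ[k] (1 : K)
        simp]
    exact (Ideal.over_def qK q).symm
  rw [h2, h3, localDim_eq_trdeg_add ⟨q, inferInstance⟩ r hr, localDim_eq_trdeg_add ⟨qK, inferInstance⟩ rK hrK] at h1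
  rw [add_comm, h1, add_comm]

theorem fibre_add (qK : Ideal (S ⊗[k] K)) [qK.IsPrime] (q : Ideal S) [q.IsPrime] [qK.LiesOver q] :
    ringKrullDim (Localization.AtPrime qK) =
      ringKrullDim (Localization.AtPrime q) + ringKrullDim (EGA4.FibLocRing S (S ⊗[k] K) qK) := by
  haveI := finiteType_right k S K
  haveI : IsNoetherianRing S := Algebra.FiniteType.isNoetherianRing k S
  haveI : IsNoetherianRing (S ⊗[k] K) := Algebra.FiniteType.isNoetherianRing K (S ⊗[k] K)
  letI := Localization.AtPrime.algebraOfLiesOver q qK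
  haveI : Module.Flat S (Localization.AtPrime qK) := Module.Flat.trans S (S ⊗[k] K) _
  haveI : Module.Flat (Localization.AtPrime q) (Localization.AtPrime qK) :=
    (Module.flat_iff_of_isLocalization (Localization.AtPrime q) q.primeCompl _).2 inferInstance
  haveI : IsLocalHom (algebraMap (Localization.AtPrime q) (Localization.AtPrime qK)) := inferInstance
  haveI : IsNoetherianRing (Localization.AtPrime q) := IsLocalization.isNoetherianRing q.primeCompl _ inferInstance
  haveI : IsNoetherianRing (Localization.AtPrime qK) := IsLocalization.isNoetherianRing qK.primeCompl _ inferInstance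
  rw [CatLib.ringKrullDim_eq_add_of_flat (A := Localization.AtPrime q) (B := Localization.AtPrime qK)]
  congr 1
  refine ringKrullDim_eq_of_ringEquiv (Ideal.quotEquivOfEq ?_)
  rw [← Localization.AtPrime.map_eq_maximalIdeal, Ideal.map_map, ← IsScalarTower.algebraMap_eq]
  exact congrArg (fun I => Ideal.map _ I) (Ideal.over_def qK q)

theorem main (q : Ideal S) [q.IsPrime] (r : ℕ) (hr : Algebra.trdeg k q.ResidueField = r)
    (qK : Ideal (S ⊗[k] K)) [qK.IsPrime] [qK.LiesOver q] (rK : ℕ) (hrK : Algebra.trdeg K qK.ResidueField = rK) :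
    ringKrullDim (EGA4.FibLocRing S (S ⊗[k] K) qK) + ringKrullDim (Localization.AtPrime q) =
        ringKrullDim (Localization.AtPrime qK) ∧
      ringKrullDim (EGA4.FibLocRing S (S ⊗[k] K) qK) + (rK : WithBot ℕ∞) = (r : WithBot ℕ∞) := by
  haveI : IsNoetherianRing S := Algebra.FiniteType.isNoetherianRing k S
  have a := dim_add_trdeg k S K q r hr qK rK hrK
  have b := fibre_add k S K qK q
  refine ⟨by rw [b, add_comm], ?_⟩
  obtain ⟨n, hn⟩ : ∃ n : ℕ, ringKrullDim (Localization.AtPrime q) = n := by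
    rw [IsLocalization.AtPrime.ringKrullDim_eq_height q (Localization.AtPrime q)]
    obtain ⟨n, hn⟩ := ENat.ne_top_iff_exists.mp (Ideal.height_ne_top (I := q) Ideal.IsPrime.ne_top')
    exact ⟨n, by rw [← hn]; rfl⟩
  rw [b, hn, add_assoc] at a
  exact add_cancel_nat a

theorem exists_dim_zero (q : Ideal S) [q.IsPrime] :
    ∃ (q' : Ideal (S ⊗[k] K)) (_ : q'.IsPrime), q'.LiesOver q ∧
      ringKrullDim (EGA4.FibLocRing S (S ⊗[k] K) q') = 0 := by
  obtain ⟨⟨P0, hP0⟩, h0⟩ := PrimeSpectrum.comap_surjective_of_faithfullyFlat (B := S ⊗[k] K) (⟨q, inferInstance⟩ : PrimeSpectrum S)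
  have h0' : P0.comap (algebraMap S (S ⊗[k] K)) = q := congrArg PrimeSpectrum.asIdeal h0
  have hle : q.map (algebraMap S (S ⊗[k] K)) ≤ P0 := Ideal.map_le_iff_le_comap.2 h0'.ge
  obtain ⟨P, hP, hPle⟩ := Ideal.exists_minimalPrimes_le hle
  haveI : P.IsPrime := hP.1.1
  have hover : P.comap (algebraMap S (S ⊗[k] K)) = q :=
    le_antisymm ((Ideal.comap_mono hPle).trans h0'.le) (Ideal.map_le_iff_le_comap.1 hP.1.2)
  refine ⟨P, inferInstance, ⟨hover.symm⟩, ?_⟩
  let L := Localization.AtPrime P
  let I : Ideal L := (P.comap (algebraMap S (S ⊗[k] K))).map (algebraMap S L)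
  have hI : I ≤ maximalIdeal L := by
    refine Ideal.map_le_iff_le_comap.2 fun x hx => ?_
    rw [Ideal.mem_comap, IsScalarTower.algebraMap_apply S (S ⊗[k] K) L]
    exact (IsLocalization.AtPrime.to_map_mem_maximal_iff L P _).2 hx
  haveI : Nontrivial (L ⧸ I) := Ideal.Quotient.nontrivial_iff.2 fun h => (maximalIdeal.isMaximal L).ne_top (top_le_iff.1 (h ▸ hI))
  haveI : Ring.KrullDimLE 0 (L ⧸ I) := by
    refine Ring.KrullDimLE.mk₀ fun M hM => ?_
    let M' := M.comap (Ideal.Quotient.mk I)
    haveI : M'.IsPrime := Ideal.IsPrime.comap _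
    have hIM : I ≤ M' := fun x hx => by
      show Ideal.Quotient.mk I x ∈ M
      rw [Ideal.Quotient.eq_zero_iff_mem.2 hx]; exact zero_mem _
    have h1 : q.map (algebraMap S (S ⊗[k] K)) ≤ M'.comap (algebraMap (S ⊗[k] K) L) := by
      refine Ideal.map_le_iff_le_comap.2 fun x hx => ?_
      show algebraMap (S ⊗[k] K) L (algebraMap S (S ⊗[k] K) x) ∈ M'
      rw [← IsScalarTower.algebraMap_apply]
      exact hIM (Ideal.mem_map_of_mem _ (hover.ge hx))
    have h2 : M'.comap (algebraMap (S ⊗[k] K) L) ≤ P :=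
      (Ideal.comap_mono (IsLocalRing.le_maximalIdeal (Ideal.IsPrime.ne_top inferInstance))).trans
        (le_of_eq Localization.AtPrime.comap_maximalIdeal)
    have h3 : M'.comap (algebraMap (S ⊗[k] K) L) = P := le_antisymm h2 (hP.2 ⟨inferInstance, h1⟩ h2)
    have h4 : M' = maximalIdeal L := by
      rw [← IsLocalization.map_comap P.primeCompl L M', show Ideal.under (S ⊗[k] K) M' = P from h3]
      exact Localization.AtPrime.map_eq_maximalIdeal
    haveI : M'.IsMaximal := h4 ▸ maximalIdeal.isMaximal L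
    rw [← Ideal.map_comap_of_surjective _ Ideal.Quotient.mk_surjective M]
    exact Ideal.IsMaximal.map_of_surjective_of_ker_le Ideal.Quotient.mk_surjective (by rw [Ideal.mk_ker]; exact hIM)
  exact ringKrullDimZero_iff_ringKrullDim_eq_zero.1 inferInstance

end FieldBCDimLib
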